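import Cfsg.Agent.H35.W.TCReplay
import Cfsg.Agent.H35.TCMain

/-!
# Index and orbits from a pair of certificates with 24-bit names (helper35)
-/

set_option autoImplicit false

namespace Cfsg.Agent.H35.W

section Main

variable {γ : Type} {G : Type} [Group G] (gen : γ → G) (H : Subgroup G)
  (D : PData γ) (R : RData γ) (rels : List (List γ × List γ))
  (prels : List (List γ × ℕ × ℕ × List γ)) (sw : List (List γ))

/-- everything needed to conclude: a checked permutation certificate and a checked replay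
certificate for the same subgroup -/
structure TCHyp : Prop where
  UP : ∀ f : γ → Equiv.Perm (Fin D.N), (∀ x, f x * f x = 1) →
      (∀ r ∈ rels, uw f (r.1 ++ r.2.reverse) = 1) →
      (∀ r ∈ prels, uw f r.1 ^ r.2.1 = uw f r.2.2.2) →
      ∃ φ : G →* Equiv.Perm (Fin D.N), ∀ x, φ (gen x) = f x
  hP : PermOK D rels prels sw
  hy : RHyp R H gen
  hgensR : ∀ x : γ, x ∈ R.gens
  hgen : Subgroup.closure (Set.range gen) = ⊤
  hN : 0 < R.N
  hNM : R.N ≤ R.M
  hNN : R.N = D.N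
  hchk : ∀ p, p < R.M → R.chk p = true
  hH : H = Subgroup.closure {g | ∃ w ∈ sw, g = uw gen w}

variable {gen H D R rels prels sw}

theorem tc_core (h : TCHyp gen H D R rels prels sw) (hN : 0 < D.N) :
    ∃ ρ : G →* Equiv.Perm (Fin D.N),
      (∀ (w : List γ) (p : Fin D.N), D.walk w p.val = ((ρ (uw gen w))⁻¹ p).val) ∧
      H = stabOf ρ ⟨0, hN⟩ ∧ (∀ ω : Fin D.N, ∃ g : G, ρ g ⟨0, hN⟩ = ω) := by
  obtain ⟨ρ, hw, htr, hfix⟩ := perm_rep gen h.UP h.hP
  refine ⟨ρ, hw, ?_, htr⟩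
  have hH := h.hH
  have hle : H ≤ stabOf ρ ⟨0, hN⟩ := by
    rw [hH, Subgroup.closure_le]
    rintro g ⟨w, hwm, rfl⟩
    exact hfix w hwm
  have hb := replay_bound h.hy h.hgensR h.hgen h.hN h.hNM h.hchk
  exact eq_stabOf H ρ _ (fun g hg => hle hg) htr hb.1
    (by rw [Fintype.card_fin, ← h.hNN]; exact hb.2)

/-- The index of the subgroup is the number of points. -/
theorem tc_index (h : TCHyp gen H D R rels prels sw) : H.index = D.N := by
  obtain ⟨ρ, _, hst, htr⟩ := tc_core h h.hP.hN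
  rw [hst, index_stabOf ρ _ htr, Fintype.card_fin]

/-- The orbits of the subgroup on its cosets are the classes of the certificate. -/
theorem tc_orbits (h : TCHyp gen H D R rels prels sw) (roots : List ℕ)
    (ho : ∀ p, p < D.N → D.orbOK sw roots p = true) :
    ∃ E : G ⧸ H → ℕ, Function.Injective E ∧ (∀ q, E q < D.N) ∧ (∀ i, i < D.N → ∃ q, E q = i) ∧
      ∀ q q' : G ⧸ H, (∃ g ∈ H, g • q = q') ↔ D.cls (E q') = D.cls (E q) := by
  have hN := h.hP.hN
  obtain ⟨ρ, hw, hst, htr⟩ := tc_core h hN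
  have hH := h.hH
  have hinv := h.hy.hinv
  clear h
  subst hst
  refine ⟨fun q => (orbMap ρ ⟨0, hN⟩ q).val, ?_, ?_, ?_, ?_⟩
  · intro a b hab
    exact orbMap_injective ρ _ (Fin.ext hab)
  · intro q; exact (orbMap ρ ⟨0, hN⟩ q).isLt
  · intro i hi
    obtain ⟨q, hq⟩ := orbMap_surjective ρ ⟨0, hN⟩ htr ⟨i, hi⟩
    exact ⟨q, congrArg Fin.val hq⟩
  · intro q q'
    rw [orbMap_orbit_iff]
    exact orbits_eq_classes gen hinv roots ho ρ hw _ hH _ _

/-- Size of an orbit from the counting loop. -/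
theorem orbit_ncard_eq [inst : MulAction H (G ⧸ H)]
    (hsmul : ∀ (g : H) (q : G ⧸ H), g • q = (g : G) • q)
    (cls : ℕ → ℕ) (N : ℕ) (E : G ⧸ H → ℕ) (hE : Function.Injective E) (hlt : ∀ q, E q < N)
    (hsurj : ∀ i, i < N → ∃ q, E q = i)
    (horb : ∀ q q' : G ⧸ H, (∃ g ∈ H, g • q = q') ↔ cls (E q') = cls (E q))
    (q : G ⧸ H) (d : ℕ) (hd : N ≤ 2 ^ d) :
    (MulAction.orbit H q).ncard = cntR (fun i => Nat.beq (cls i) (cls (E q))) N d 0 := by
  rw [cntR_card _ _ _ hd]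
  have himg : E '' (MulAction.orbit H q) =
      ↑((Finset.range N).filter (fun i => Nat.beq (cls i) (cls (E q)) = true)) := by
    ext i
    simp only [Set.mem_image, Finset.coe_filter, Finset.mem_range, Set.mem_ofPred_eq, Nat.beq_eq]
    constructor
    · rintro ⟨q', ⟨g, rfl⟩, rfl⟩
      refine ⟨hlt _, (horb q (g • q)).mp ⟨g.1, g.2, (hsmul g q).symm⟩⟩
    · rintro ⟨hi, hc⟩
      obtain ⟨q', rfl⟩ := hsurj i hi
      obtain ⟨g, hg, e⟩ := (horb q q').mpr hc
      exact ⟨q', ⟨⟨g, hg⟩, (hsmul ⟨g, hg⟩ q).trans e⟩, rfl⟩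
  rw [← Set.ncard_image_of_injective _ hE, himg, Set.ncard_coe_finset]

end Main

end Cfsg.Agent.H35.W
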